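import Groth.Agent.NormLB.Norm
import Groth.Agent.NormAmple.LocFree
import Groth.Prelude.Def_Fitting

/-!
Norms without fixed degree for finite morphisms with free neighbourhoods; abstract norms of degree `d`.
-/

set_option autoImplicit false
set_option backward.isDefEq.respectTransparency false
set_option linter.style.haveILetI false
set_option linter.unusedSectionVars false

universe u

open CategoryTheory CategoryTheory.Limits AlgebraicGeometry TopologicalSpace Opposite Module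
open Groth.Agent.QC (res resO res_res res_self res_smul resO_resO resO_self app_res)
open Groth.Agent.NormAmple (Good νloc good_basicOpen isUnit_νloc FreeNhds)

noncomputable section

namespace Groth.Agent.NormLB

open Groth.Agent

variable {X' X : Scheme.{u}} {g : X' ⟶ X}

variable (g) in
/-- The determinant norm. -/
def νP (W : X.Opens) : Γ(X', g ⁻¹ᵁ W) →* Γ(X, W) :=
  letI := (g.app W).hom.toAlgebra
  Algebra.norm Γ(X, W)

variable (g) in
/-- An affine open with free nonzero direct image. -/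
def GoodP (W : X.Opens) : Prop := ∃ n, 0 < n ∧ Good g n W

lemma νloc_eq_νP {n : ℕ} {W : X.Opens} (hn : 0 < n) (hW : IsAffineOpen W)
    (hb : letI := (g.app W).hom.toAlgebra
      Nonempty (Basis (Fin n) Γ(X, W) Γ(X', g ⁻¹ᵁ W))) (a : Γ(X', g ⁻¹ᵁ W)) :
    νloc g n W a = νP g W a := by
  cases subsingleton_or_nontrivial Γ(X, W)
  · exact Subsingleton.elim _ _
  letI := (g.app W).hom.toAlgebra
  obtain ⟨b⟩ := hb
  show Algebra.norm Γ(X, W) a ^ (n / finrank _ _) = Algebra.norm Γ(X, W) a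
  rw [finrank_eq_card_basis b, Fintype.card_fin, Nat.div_self hn, pow_one]

lemma exists_free_of_goodP {W : X.Opens} (h : GoodP g W) : ∃ m, 0 < m ∧ Good g m W ∧
    (letI := (g.app W).hom.toAlgebra; Nonempty (Basis (Fin m) Γ(X, W) Γ(X', g ⁻¹ᵁ W))) := by
  obtain ⟨n, -, hW, m, hm, -, hb⟩ := h
  exact ⟨m, hm, ⟨hW, m, hm, dvd_rfl, hb⟩, hb⟩

lemma goodP_basicOpen [IsAffineHom g] {W : X.Opens} (hW : GoodP g W) (r : Γ(X, W)) :
    GoodP g (X.basicOpen r) ∧ ∀ a : Γ(X', g ⁻¹ᵁ W),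
      νP g (X.basicOpen r) (resO X' (g.preimage_mono (X.basicOpen_le r)) a) =
        resO X (X.basicOpen_le r) (νP g W a) := by
  obtain ⟨m, hm, hG, hb⟩ := exists_free_of_goodP hW
  obtain ⟨hG', hν⟩ := good_basicOpen g m hG r
  refine ⟨⟨m, hm, hG'⟩, fun a => ?_⟩
  obtain ⟨m', hm', -, hb'⟩ := id hG'.2
  cases subsingleton_or_nontrivial Γ(X, X.basicOpen r)
  · exact Subsingleton.elim _ _
  rw [← νloc_eq_νP hm hG.1 hb a, ← hν]
  letI := (g.app (X.basicOpen r)).hom.toAlgebra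
  obtain ⟨b'⟩ := hb'
  refine (νloc_eq_νP hm hG'.1 ?_ _).symm
  obtain ⟨-, -, hd⟩ := id hG
  have hrank : finrank Γ(X, X.basicOpen r) Γ(X', g ⁻¹ᵁ X.basicOpen r) = m := by
    letI : Algebra Γ(X, W) Γ(X', g ⁻¹ᵁ W) := (g.app W).hom.toAlgebra
    letI : Algebra Γ(X, W) Γ(X, X.basicOpen r) := (resO X (X.basicOpen_le r)).toAlgebra
    letI : Algebra Γ(X', g ⁻¹ᵁ W) Γ(X', g ⁻¹ᵁ X.basicOpen r) :=
      (resO X' (g.preimage_mono (X.basicOpen_le r))).toAlgebra
    letI : Algebra Γ(X, W) Γ(X', g ⁻¹ᵁ X.basicOpen r) :=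
      ((resO X' (g.preimage_mono (X.basicOpen_le r))).comp (g.app W).hom).toAlgebra
    haveI : IsScalarTower Γ(X, W) Γ(X', g ⁻¹ᵁ W) Γ(X', g ⁻¹ᵁ X.basicOpen r) :=
      IsScalarTower.of_algebraMap_eq fun _ => rfl
    haveI : IsScalarTower Γ(X, W) Γ(X, X.basicOpen r) Γ(X', g ⁻¹ᵁ X.basicOpen r) :=
      IsScalarTower.of_algebraMap_eq fun c => congr(($(g.naturality (homOfLE (X.basicOpen_le r)).op)).hom c).symm
    haveI : IsLocalization (Submonoid.powers r) Γ(X, X.basicOpen r) := hG.1.isLocalization_basicOpen r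
    haveI : IsLocalization (Algebra.algebraMapSubmonoid Γ(X', g ⁻¹ᵁ W) (Submonoid.powers r))
        Γ(X', g ⁻¹ᵁ X.basicOpen r) := by
      rw [Algebra.algebraMapSubmonoid_powers]
      exact (hG.1.preimage g).isLocalization_of_eq_basicOpen ((g.app W).hom r)
        (homOfLE (g.preimage_mono (X.basicOpen_le r))) (g.preimage_basicOpen r)
    obtain ⟨b⟩ := hb
    exact (finrank_eq_card_basis (b.localizationLocalization Γ(X, X.basicOpen r) (Submonoid.powers r)
      Γ(X', g ⁻¹ᵁ X.basicOpen r))).trans (Fintype.card_fin m)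
  have : m' = m := by rw [← hrank, finrank_eq_card_basis b', Fintype.card_fin]
  exact ⟨this ▸ b'⟩

variable (g) in
/-- The defining property of the determinant norm of a section. -/
def IsNormP {V : X.Opens} (a : Γ(X', g ⁻¹ᵁ V)) (t : Γ(X, V)) : Prop :=
  ∀ (W : X.Opens) (h : W ≤ V), GoodP g W → resO X h t = νP g W (resO X' (g.preimage_mono h) a)

lemma exists_goodP_le [IsAffineHom g] (hG : FreeNhds g) {V : X.Opens} {x : X}
    (hx : x ∈ V) : ∃ W, W ≤ V ∧ x ∈ W ∧ GoodP g W := by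
  obtain ⟨W, n, hxW, hn, hW, hb⟩ := hG x
  obtain ⟨r, hr, hxr⟩ := hW.exists_basicOpen_le ⟨x, hx⟩ hxW
  exact ⟨_, hr, hxr, (goodP_basicOpen ⟨n, hn, hW, n, hn, dvd_rfl, hb⟩ r).1⟩

lemma νP_compat [IsAffineHom g] {W₁ W₂ : X.Opens} (h₁ : GoodP g W₁) (h₂ : GoodP g W₂)
    {V : X.Opens} (e₁ : W₁ ≤ V) (e₂ : W₂ ≤ V) (a : Γ(X', g ⁻¹ᵁ V)) :
    resO X (inf_le_left : W₁ ⊓ W₂ ≤ W₁) (νP g W₁ (resO X' (g.preimage_mono e₁) a)) =
      resO X (inf_le_right : W₁ ⊓ W₂ ≤ W₂) (νP g W₂ (resO X' (g.preimage_mono e₂) a)) := by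
  obtain ⟨_, _, hW₁⟩ := id h₁
  obtain ⟨_, _, hW₂⟩ := id h₂
  choose r r' hr hyr using fun y : (W₁ ⊓ W₂ : X.Opens) =>
    exists_basicOpen_le_affine_inter hW₁.1 hW₂.1 y.1 y.2
  have hr₂ : ∀ y, X.basicOpen (r y) ≤ W₂ := fun y => (hr y).trans_le (X.basicOpen_le (r' y))
  refine X.sheaf.eq_of_locally_eq' (fun y : (W₁ ⊓ W₂ : X.Opens) => X.basicOpen (r y))
    (W₁ ⊓ W₂) (fun y => homOfLE (le_inf (X.basicOpen_le _) (hr₂ y)))
    (fun y hy => Opens.mem_iSup.mpr ⟨⟨y, hy⟩, hyr _⟩) _ _ fun y => ?_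
  have key : ∀ (B : X.Opens) (_ : B = X.basicOpen (r' y)) (hB : B ≤ W₂),
      νP g B (resO X' (g.preimage_mono hB) (resO X' (g.preimage_mono e₂) a)) =
        resO X hB (νP g W₂ (resO X' (g.preimage_mono e₂) a)) := by
    rintro B rfl hB
    exact (goodP_basicOpen h₂ (r' y)).2 _
  show resO X (le_inf (X.basicOpen_le (r y)) (hr₂ y)) (resO X inf_le_left _) =
    resO X (le_inf (X.basicOpen_le (r y)) (hr₂ y)) (resO X inf_le_right _)
  rw [resO_resO, resO_resO, ← key _ (hr y) (hr₂ y), ← (goodP_basicOpen h₁ (r y)).2, resO_resO, resO_resO]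

lemma isUnit_νP {W : X.Opens} (hW : GoodP g W) (a : Γ(X', g ⁻¹ᵁ W)) :
    IsUnit (νP g W a) ↔ IsUnit a := by
  obtain ⟨m, hm, hG, hb⟩ := exists_free_of_goodP hW
  rw [← νloc_eq_νP hm hG.1 hb, isUnit_νloc g m hG hm]

/-- The norm of a finite morphism with free neighbourhoods. -/
theorem exists_preNorm [IsFinite g] (hG : FreeNhds g) : Nonempty (PreNorm g) := by
  classical
  have hE : ∀ (V : X.Opens) (a : Γ(X', g ⁻¹ᵁ V)), ∃! t : Γ(X, V), IsNormP g a t := fun V a => by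
    obtain ⟨t, ht, huniq⟩ := X.sheaf.existsUnique_gluing'
      (fun W : {W : X.Opens // W ≤ V ∧ GoodP g W} => W.1) V (fun W => homOfLE W.2.1)
      (fun x hx => by
        obtain ⟨W, hWV, hxW, hW⟩ := exists_goodP_le hG hx
        exact Opens.mem_iSup.mpr ⟨⟨W, hWV, hW⟩, hxW⟩)
      (fun W => νP g W.1 (resO X' (g.preimage_mono W.2.1) a))
      (fun W₁ W₂ => νP_compat W₁.2.2 W₂.2.2 W₁.2.1 W₂.2.1 a)
    exact ⟨t, fun W h hW => ht ⟨W, h, hW⟩, fun t' ht' => huniq t' fun W => ht' W.1 W.2.1 W.2.2⟩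
  let n : ∀ V, Γ(X', g ⁻¹ᵁ V) → Γ(X, V) := fun V a => (hE V a).choose
  have hn : ∀ V a, IsNormP g a (n V a) := fun V a => (hE V a).choose_spec.1
  have hu : ∀ {V} {a : Γ(X', g ⁻¹ᵁ V)} {t}, IsNormP g a t → n V a = t := fun {V a t} h =>
    ((hE V a).choose_spec.2 t h).symm
  let ν : ∀ V, Γ(X', g ⁻¹ᵁ V) →* Γ(X, V) := fun V =>
    { toFun := n V
      map_one' := hu fun W h _ => by rw [map_one, map_one, map_one]
      map_mul' := fun a b => hu fun W h hW => by
        rw [map_mul, map_mul, map_mul, hn V a W h hW, hn V b W h hW] }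
  have hres : ∀ {W V : X.Opens} (h : W ≤ V) (a : Γ(X', g ⁻¹ᵁ V)),
      ν W (resO X' (g.preimage_mono h) a) = resO X h (ν V a) := fun {W V} h a => hu fun W' h' hW' => by
    show resO X h' (resO X h (n V a)) = _
    rw [resO_resO, hn V a W' (h'.trans h) hW', resO_resO]
  have hloc : ∀ (V : X.Opens) (a : Γ(X', g ⁻¹ᵁ V)) (y : X), y ∈ V → y ∈ X.basicOpen (ν V a) →
      ∃ W : X.Opens, y ∈ W ∧ GoodP g W ∧ g ⁻¹ᵁ W ≤ X'.basicOpen a := fun V a y hy hyb => by
    obtain ⟨W, hWb, hyW, hW⟩ := exists_goodP_le hG hyb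
    refine ⟨W, hyW, hW, ?_⟩
    have hWV : W ≤ V := hWb.trans (X.basicOpen_le _)
    have h1 : IsUnit (resO X hWV (ν V a)) := by
      rw [← resO_resO hWb (X.basicOpen_le _)]
      exact (RingedSpace.isUnit_res_basicOpen _ _).map _
    rw [← hres hWV] at h1
    rw [show ν W (resO X' (g.preimage_mono hWV) a) = νP g W (resO X' (g.preimage_mono hWV) a) from
      (QC.resO_self le_rfl _).symm.trans ((hn W _ W le_rfl hW).trans (congrArg _ (QC.resO_self _ _))),
      isUnit_νP hW] at h1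
    exact fun x' hx' => QC.basicOpen_resO_le _ a ((X'.basicOpen_of_isUnit h1).ge hx')
  refine ⟨{ ν := ν, ν_res := hres, mem_basicOpen := fun V a y hy hfib => ?_, exists_mem := ?_ }⟩
  · let O : X.Opens := V ⊓ ⟨_, (g.isClosedMap _ (X'.basicOpen a).2.isClosed_compl).isOpen_compl⟩
    have hOV : O ≤ V := inf_le_left
    have hyO : y ∈ O := ⟨hy, fun ⟨x', hx', e⟩ => hx' (hfib x' e)⟩
    have h1 : IsUnit (resO X' (g.preimage_mono hOV) a) := by
      have hle : g ⁻¹ᵁ O ≤ X'.basicOpen a := fun x' hx' => by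
        by_contra hc
        exact hx'.2 ⟨x', hc, rfl⟩
      rw [← resO_resO hle (X'.basicOpen_le a)]
      exact (RingedSpace.isUnit_res_basicOpen _ a).map _
    have h2 := h1.map (ν O)
    rw [hres hOV] at h2
    exact QC.basicOpen_resO_le _ _ ((X.basicOpen_of_isUnit h2).ge hyO)
  · intro V a y hy hyb
    obtain ⟨W, hyW, hW, hle⟩ := hloc V a y hy hyb
    by_contra! hno
    have hbot : ∀ x', g.base x' = y → False := fun x' hx' =>
      hno x' hx' (hle (show g.base x' ∈ W by rw [hx']; exact hyW))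
    obtain ⟨m, hm, hGm, -⟩ := exists_free_of_goodP hW
    obtain ⟨r, hr, hyr⟩ := hGm.1.exists_basicOpen_le
      (V := ⟨_, g.isClosedMap.isClosed_range.isOpen_compl⟩) ⟨y, fun ⟨x', hx'⟩ => hbot x' hx'⟩ hyW
    obtain ⟨-, k, hk, -, ⟨b⟩⟩ := (good_basicOpen g m hGm r).1
    letI := (g.app (X.basicOpen r)).hom.toAlgebra
    haveI : Nonempty (X.basicOpen r : X.Opens) := ⟨⟨y, hyr⟩⟩
    have hsub : ∀ O : X'.Opens, O = ⊥ → Subsingleton Γ(X', O) := by
      rintro O rfl; infer_instance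
    haveI := hsub (g ⁻¹ᵁ X.basicOpen r) (eq_bot_iff.2 fun x' hx' => hr hx' ⟨x', rfl⟩)
    haveI : IsEmpty (Fin k) := ⟨fun i => b.ne_zero i (Subsingleton.elim _ _)⟩
    exact isEmptyElim (⟨0, hk⟩ : Fin k)

/-- A norm of degree `d` gives a norm map. -/
def ofNormOfDegree [IsFinite g] {d : ℕ} (N : Nrm.NormOfDegree g d) : NormAmple.NormMap g d where
  ν := N.norm
  ν_res := fun h a => (N.norm_res (homOfLE h) a).symm
  ν_app := fun V c => N.norm_app V c
  mem_basicOpen := fun V a y hy hfib => by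
    let O : X.Opens := V ⊓ ⟨_, (g.isClosedMap _ (X'.basicOpen a).2.isClosed_compl).isOpen_compl⟩
    have hOV : O ≤ V := inf_le_left
    have hyO : y ∈ O := ⟨hy, fun ⟨x', hx', e⟩ => hx' (hfib x' e)⟩
    have h1 : IsUnit (resO X' (g.preimage_mono hOV) a) := by
      have hle : g ⁻¹ᵁ O ≤ X'.basicOpen a := fun x' hx' => by
        by_contra hc
        exact hx'.2 ⟨x', hc, rfl⟩
      rw [← resO_resO hle (X'.basicOpen_le a)]
      exact (RingedSpace.isUnit_res_basicOpen _ a).map _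
    have h2 : IsUnit (resO X hOV (N.norm V a)) := (N.norm_res (homOfLE hOV) a) ▸ h1.map (N.norm O)
    exact QC.basicOpen_resO_le _ _ ((X.basicOpen_of_isUnit h2).ge hyO)
  exists_mem := fun V a y hy hyb => by
    by_contra! hno
    by_cases hne : ∃ x', g.base x' = y
    · obtain ⟨x', rfl⟩ := hne
      have hnu : X'.presheaf.germ (g ⁻¹ᵁ V) x' hy a ∈ IsLocalRing.maximalIdeal _ :=
        (IsLocalRing.mem_maximalIdeal _).mpr fun hu => hno x' rfl ((X'.mem_basicOpen a x' hy).mpr hu)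
      exact (IsLocalRing.mem_maximalIdeal _).mp (N.norm_mem V a x' hy hnu) ((X.mem_basicOpen _ _ hy).mp hyb)
    · let O : X.Opens := V ⊓ ⟨_, g.isClosedMap.isClosed_range.isOpen_compl⟩
      have hyO : y ∈ O := ⟨hy, fun ⟨x', hx'⟩ => hne ⟨x', hx'⟩⟩
      have hbot : g ⁻¹ᵁ O = ⊥ := eq_bot_iff.2 fun x' hx' => hx'.2 ⟨x', rfl⟩
      haveI : Subsingleton Γ(X', g ⁻¹ᵁ O) := by rw [hbot]; infer_instance
      haveI : Nonempty O := ⟨⟨y, hyO⟩⟩
      have h0 : (1 : Γ(X, O)) = 0 := by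
        have := N.norm_app O 0
        rw [Subsingleton.elim ((g.app O).hom (0 : Γ(X, O))) 1, map_one,
          zero_pow (Nat.one_le_iff_ne_zero.mp N.one_le)] at this
        exact this
      exact one_ne_zero h0

end Groth.Agent.NormLB
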