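import Groth.Agent.InvExt.Module

/-!
The invertible module of a multiplicative cocycle on an open cover.
-/

set_option autoImplicit false
set_option backward.isDefEq.respectTransparency false

universe u

open CategoryTheory CategoryTheory.Limits AlgebraicGeometry TopologicalSpace Opposite
open Groth.Agent.QC (res resO res_res res_smul resO_resO section_eq_of_locally abSheaf Sub)
open Groth.Agent.InvExt (PairSec pairs)

noncomputable section

namespace Groth.Agent.NormLB

open Groth.Agent

variable {X : Scheme.{u}} {κ : Type u} {W : κ → X.Opens} (c : ∀ z w, Γ(X, W z ⊓ W w))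

/-- The cocycle identity, on every common open. -/
def IsCocycle : Prop :=
  ∀ (z w v : κ) (O : X.Opens) (hz : O ≤ W z) (hw : O ≤ W w) (hv : O ≤ W v),
    resO X (le_inf hz hw) (c z w) * resO X (le_inf hw hv) (c w v) = resO X (le_inf hz hv) (c z v)

/-- Families of coordinates related by the cocycle, inside the pairs with vanishing first member. -/
def fams : Sub (pairs (Coh.structureModule X) W) where
  obj V :=
    { carrier := {p : PairSec (Coh.structureModule X) W V | p.1 = 0 ∧
        ∀ (z w : κ) (O : X.Opens) (hV : O ≤ V) (hz : O ≤ W z) (hw : O ≤ W w),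
          resO X (le_inf hV hw) (p.2 w) = resO X (le_inf hV hz) (p.2 z) * resO X (le_inf hz hw) (c z w)}
      zero_mem' := ⟨rfl, fun z w O hV hz hw => by
        change resO X _ (0 : Γ(X, V ⊓ W w)) = resO X _ (0 : Γ(X, V ⊓ W z)) * _
        rw [map_zero, map_zero, zero_mul]⟩
      add_mem' := fun {p q} hp hq => ⟨by
        change (show PairSec (Coh.structureModule X) W V from p).1 +
          (show PairSec (Coh.structureModule X) W V from q).1 = 0
        rw [hp.1, hq.1, add_zero], fun z w O hV hz hw => by
        change resO X _ ((show PairSec (Coh.structureModule X) W V from p).2 w +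
            (show PairSec (Coh.structureModule X) W V from q).2 w) =
          resO X _ ((show PairSec (Coh.structureModule X) W V from p).2 z +
            (show PairSec (Coh.structureModule X) W V from q).2 z) * _
        rw [map_add, map_add, hp.2 z w O hV hz hw, hq.2 z w O hV hz hw, add_mul]⟩
      smul_mem' := fun r p hp => ⟨by
        change r • (show PairSec (Coh.structureModule X) W V from p).1 = 0
        rw [hp.1, smul_zero], fun z w O hV hz hw => by
        change resO X _ (resO X inf_le_left r * (show PairSec (Coh.structureModule X) W V from p).2 w) =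
          resO X _ (resO X inf_le_left r * (show PairSec (Coh.structureModule X) W V from p).2 z) * _
        rw [map_mul, map_mul, resO_resO, resO_resO, hp.2 z w O hV hz hw, mul_assoc]⟩ }
  res_mem := fun {V' V} h {p} hp => ⟨by
    change res (Coh.structureModule X) h (show PairSec (Coh.structureModule X) W V from p).1 = 0
    rw [hp.1, map_zero], fun z w O hV hz hw => by
    change resO X _ (resO X (inf_le_inf_right (W w) h) ((show PairSec (Coh.structureModule X) W V from p).2 w)) =
      resO X _ (resO X (inf_le_inf_right (W z) h) ((show PairSec (Coh.structureModule X) W V from p).2 z)) * _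
    rw [resO_resO, resO_resO]
    exact hp.2 z w O (hV.trans h) hz hw⟩
  local' := fun {V} p hp => ⟨section_eq_of_locally fun x hx => by
      obtain ⟨V', hV', hxV', hp'⟩ := hp x hx
      exact ⟨V', hV', hxV', hp'.1.trans (map_zero _).symm⟩, fun z w O hV hz hw => by
    refine QC.section_eq_of_locally (M := Coh.structureModule X) fun x hx => ?_
    obtain ⟨V', hV', hxV', hp'⟩ := hp x (hV hx)
    refine ⟨O ⊓ V', inf_le_left, ⟨hx, hxV'⟩, ?_⟩
    have h3 := hp'.2 z w (O ⊓ V') inf_le_right (inf_le_left.trans hz) (inf_le_left.trans hw)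
    change resO X (inf_le_left : O ⊓ V' ≤ O) _ = resO X (inf_le_left : O ⊓ V' ≤ O) _
    change resO X _ (resO X (inf_le_inf_right (W w) hV') ((show PairSec (Coh.structureModule X) W V from p).2 w)) =
      resO X _ (resO X (inf_le_inf_right (W z) hV') ((show PairSec (Coh.structureModule X) W V from p).2 z)) * _
      at h3
    rw [map_mul, resO_resO, resO_resO, resO_resO]
    rw [resO_resO, resO_resO] at h3
    exact h3⟩

/-- The invertible module of the cocycle. -/
abbrev line : X.Modules := (fams c).toModules

variable {c}

/-- The coordinates of a section. -/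
def coord {V : X.Opens} (p : Γ(line c, V)) (z : κ) : Γ(X, V ⊓ W z) :=
  ((fams c).ι.app V p : PairSec (Coh.structureModule X) W V).2 z

lemma coord_spec {V : X.Opens} (p : Γ(line c, V)) (z w : κ) (O : X.Opens) (hV : O ≤ V) (hz : O ≤ W z)
    (hw : O ≤ W w) :
    resO X (le_inf hV hw) (coord p w) = resO X (le_inf hV hz) (coord p z) * resO X (le_inf hz hw) (c z w) :=
  (((fams c).range_ι_app V _).1 ⟨p, rfl⟩).2 z w O hV hz hw

lemma eq_of_coord {V : X.Opens} {p q : Γ(line c, V)} (h : ∀ z, coord p z = coord q z) : p = q :=
  (fams c).ι_app_injective V (Prod.ext (((((fams c).range_ι_app V _).1 ⟨p, rfl⟩).1).trans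
    (((fams c).range_ι_app V _).1 ⟨q, rfl⟩).1.symm) (funext h))

lemma coord_smul {V : X.Opens} (r : Γ(X, V)) (p : Γ(line c, V)) (z : κ) :
    coord (r • p) z = resO X inf_le_left r * coord p z := by
  unfold coord
  rw [Scheme.Modules.Hom.app_smul]
  rfl

lemma coord_res {V V' : X.Opens} (h : V' ≤ V) (p : Γ(line c, V)) (z : κ) :
    coord (res (line c) h p) z = resO X (inf_le_inf_right (W z) h) (coord p z) := rfl

/-- The generator on a piece. -/
def gen (hc : IsCocycle c) (z : κ) : Γ(line c, W z) :=
  (⟨((0 : Γ(Coh.structureModule X, W z)), fun w => c z w), rfl, fun a b O hO ha hb =>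
    (hc z a b O hO ha hb).symm⟩ : (fams c).obj (W z))

lemma coord_gen (hc : IsCocycle c) (z w : κ) : coord (gen hc z) w = c z w := rfl

/-- A cocycle of units is trivial on the diagonal. -/
lemma diag_eq_one (hc : IsCocycle c) (hu : ∀ z w, IsUnit (c z w)) (z : κ) {O : X.Opens} (h : O ≤ W z) :
    resO X (le_inf h h) (c z z) = 1 := by
  have := hc z z z O h h h
  exact ((hu z z).map (resO X (le_inf h h))).mul_right_inj.mp (this.trans (mul_one _).symm)

theorem isGen_gen (hc : IsCocycle c) (hu : ∀ z w, IsUnit (c z w)) (z : κ) :
    TMul.IsGen (gen hc z) := by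
  intro V hV
  have hcoord : ∀ (k : Γ(X, V)) (w : κ), coord (k • res (line c) hV (gen hc z)) w =
      resO X inf_le_left k * resO X (inf_le_inf_right (W w) hV) (c z w) := fun k w => by
    rw [coord_smul, coord_res, coord_gen]
  have hVz : V ≤ V ⊓ W z := le_inf le_rfl hV
  refine ⟨fun k k' h => ?_, fun p => ⟨resO X hVz (coord p z), eq_of_coord fun w => ?_⟩⟩
  · have h' := congrArg (fun q => resO X hVz (coord q z)) h
    simp only [hcoord, map_mul, resO_resO] at h'
    rw [QC.resO_self, QC.resO_self] at h'
    rwa [show resO X _ (c z z) = 1 from diag_eq_one hc hu z hV, mul_one, mul_one] at h'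
  · rw [hcoord, resO_resO]
    have h3 := coord_spec p z w (V ⊓ W w) inf_le_left (inf_le_left.trans hV) inf_le_right
    rw [QC.resO_self] at h3
    exact h3.symm

theorem isInvertible_line (hc : IsCocycle c) (hu : ∀ z w, IsUnit (c z w))
    (hcov : ∀ x : X, ∃ z, x ∈ W z) : PicF.IsInvertible (line c) :=
  InvGen.isInvertible fun x => by
    obtain ⟨z, hz⟩ := hcov x
    exact ⟨W z, gen hc z, hz, isGen_gen hc hu z⟩

/-- The generators differ by the cocycle. -/
theorem res_gen (hc : IsCocycle c) (z w : κ) (O : X.Opens) (hz : O ≤ W z) (hw : O ≤ W w) :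
    res (line c) hz (gen hc z) = resO X (le_inf hz hw) (c z w) • res (line c) hw (gen hc w) :=
  eq_of_coord fun v => by
    rw [coord_smul, coord_res, coord_res, coord_gen, coord_gen, resO_resO]
    exact (hc z w v (O ⊓ W v) (inf_le_left.trans hz) (inf_le_left.trans hw) inf_le_right).symm

end Groth.Agent.NormLB
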