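import Groth.Agent.NormLB.Plain
import Groth.Prelude.Def_Mor2
import Mathlib.AlgebraicGeometry.Morphisms.FlatRank

/-!
The norm of degree `d` of a finite locally free morphism of degree `d`.
-/

set_option autoImplicit false
set_option backward.isDefEq.respectTransparency false
set_option linter.style.haveILetI false
set_option linter.unusedSectionVars false

universe u

open CategoryTheory CategoryTheory.Limits AlgebraicGeometry TopologicalSpace Opposite Module
open Groth.Agent.QC (res resO res_res res_self res_smul resO_resO resO_self app_res)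
open Groth.Agent.NormAmple (Good νloc good_basicOpen isUnit_νloc normMap existsUnique_isNorm)

noncomputable section

namespace Groth.Agent.NormLB

open Groth.Agent

variable {X' X : Scheme.{u}} {g : X' ⟶ X}

/-- The rank of the direct image is the degree. -/
lemma rankAtStalk_app [IsFinite g] [Flat g] {W : X.Opens} (hW : IsAffineOpen W) {x : X} (hx : x ∈ W) :
    (letI := (g.app W).hom.toAlgebra
     Module.rankAtStalk Γ(X', g ⁻¹ᵁ W) (hW.primeIdealOf ⟨x, hx⟩)) = g.finrank x := by
  have hB := hW.preimage g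
  have sq : IsPullback (Spec.map (g.appLE W (g ⁻¹ᵁ W) le_rfl)) hB.fromSpec hW.fromSpec g :=
    IsOpenImmersion.isPullback _ _ _ _ (IsAffineOpen.SpecMap_appLE_fromSpec g hW hB le_rfl).symm
      (by rw [hW.opensRange_fromSpec, hB.opensRange_fromSpec])
  have h := Scheme.Hom.finrank_of_isPullback _ _ _ _ sq.flip (hW.primeIdealOf ⟨x, hx⟩)
  rw [hW.fromSpec_primeIdealOf ⟨x, hx⟩] at h
  rw [← h, Scheme.Hom.appLE_eq_app,
    Scheme.Hom.finrank_SpecMap_eq_finrank (IsFinite.finite_app g W hW)
      (by simpa [Scheme.Hom.appLE_eq_app] using g.flat_appLE hW hB le_rfl)]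
  rfl

/-- Free neighbourhoods of rank the degree. -/
theorem exists_good_of_deg [IsFinite g] [Flat g] [LocallyOfFinitePresentation g] {d : ℕ} (hd : 1 ≤ d)
    (hr : ∀ y, g.finrank y = d) (x : X) : ∃ W, x ∈ W ∧ Good g d W := by
  classical
  obtain ⟨W, hW, hxW, -⟩ := exists_isAffineOpen_mem_and_subset (x := x) (U := ⊤) trivial
  let M := (Coh.push g).obj (Coh.structureModule X')
  have hM : Coh.IsQCoh M := by
    haveI : (Coh.structureModule X').IsQuasicoherent := QC.isQCoh_unit X'
    exact QC.isQCoh_pushforward g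
  let A := Γ(X, W)
  letI := (g.app W).hom.toAlgebra
  let l : Γ(M, W) ≃ₗ[A] Γ(X', g ⁻¹ᵁ W) :=
    { toFun := fun c => c
      invFun := fun c => c
      map_add' := fun _ _ => rfl
      map_smul' := fun _ _ => rfl
      left_inv := fun _ => rfl
      right_inv := fun _ => rfl }
  haveI : Module.Finite A Γ(X', g ⁻¹ᵁ W) := IsFinite.finite_app g W hW
  haveI : Algebra.FinitePresentation A Γ(X', g ⁻¹ᵁ W) := by
    have := g.finitePresentation_appLE hW (hW.preimage g) le_rfl
    rwa [Scheme.Hom.appLE_eq_app] at this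
  haveI := Module.FinitePresentation.of_finite_of_finitePresentation (R := A) (S := Γ(X', g ⁻¹ᵁ W))
  haveI : Module.Flat A Γ(X', g ⁻¹ᵁ W) := by
    have := g.flat_appLE hW (hW.preimage g) le_rfl
    rwa [Scheme.Hom.appLE_eq_app] at this
  haveI : Module.FinitePresentation A Γ(M, W) := Module.FinitePresentation.of_equiv l.symm
  haveI : Module.Flat A Γ(M, W) := Module.Flat.of_linearEquiv l
  obtain ⟨r, hr', hfree⟩ := LocFree.exists_free_away (A := A) (N := Γ(M, W))
    (fun _ : PUnit.{u + 1} => hW.primeIdealOf ⟨x, hxW⟩) d (fun _ => by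
      rw [Module.rankAtStalk_eq_of_equiv l]
      exact (rankAtStalk_app hW hxW).trans (hr x))
  have hxr : x ∈ X.basicOpen r := by
    have h := hW.fromSpec_preimage_basicOpen r
    have h2 : hW.primeIdealOf ⟨x, hxW⟩ ∈ hW.fromSpec ⁻¹ᵁ X.basicOpen r := by
      rw [h]; exact hr' PUnit.unit
    have h3 : hW.fromSpec (hW.primeIdealOf ⟨x, hxW⟩) ∈ X.basicOpen r := h2
    rwa [hW.fromSpec_primeIdealOf] at h3
  haveI := hfree
  obtain ⟨h1, h2⟩ := LocFree.free_finite_basicOpen hM hW r
  haveI := h1; haveI := h2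
  let A' := Γ(X, X.basicOpen r)
  letI := (g.app (X.basicOpen r)).hom.toAlgebra
  let B' := Γ(X', g ⁻¹ᵁ X.basicOpen r)
  let l' : Γ(M, X.basicOpen r) ≃ₗ[A'] B' :=
    { toFun := fun c => c
      invFun := fun c => c
      map_add' := fun _ _ => rfl
      map_smul' := fun _ _ => rfl
      left_inv := fun _ => rfl
      right_inv := fun _ => rfl }
  let b' := ((Module.Free.chooseBasis A' Γ(M, X.basicOpen r)).map l').reindex (Fintype.equivFin _)
  haveI := Module.Free.of_basis b'
  haveI := Module.Finite.of_basis b'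
  have hk : Fintype.card (Module.Free.ChooseBasisIndex A' Γ(M, X.basicOpen r)) = d := by
    haveI : Nonempty (X.basicOpen r : X.Opens) := ⟨⟨x, hxr⟩⟩
    have e := rankAtStalk_app (g := g) (hW.basicOpen r) hxr
    rw [hr x, Module.rankAtStalk_eq_finrank_of_free, Pi.natCast_apply, Nat.cast_id,
      finrank_eq_card_basis b', Fintype.card_fin] at e
    exact e
  exact ⟨_, hxr, hW.basicOpen r, d, hd, dvd_rfl, ⟨b'.reindex (finCongr hk)⟩⟩

/-- A finite locally free morphism of degree `d ≥ 1` has a norm of degree `d`. -/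
theorem hasNorm_of_deg [IsFinite g] [Flat g] [LocallyOfFinitePresentation g] {d : ℕ} (hd : 1 ≤ d)
    (hr : ∀ y, g.finrank y = d) : Nrm.HasNorm g d := by
  have hG := exists_good_of_deg hd hr
  let N := normMap hd hG
  refine ⟨{ one_le := hd, norm := N.ν, norm_res := fun i s => (N.ν_res i.le s).symm,
            norm_app := fun U c => N.ν_app U c, norm_mem := fun U s x hx hs => ?_ }⟩
  rw [IsLocalRing.mem_maximalIdeal] at hs ⊢
  intro hu
  refine hs ((X'.mem_basicOpen s x hx).mp ?_)
  have hyb : g.base x ∈ X.basicOpen (N.ν U s) := (X.mem_basicOpen _ _ hx).mpr hu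
  obtain ⟨W, hWb, hxW, hW⟩ := NormAmple.exists_good_le hG hyb
  have hWU : W ≤ U := hWb.trans (X.basicOpen_le _)
  have h1 : IsUnit (resO X hWU (N.ν U s)) := by
    rw [← resO_resO hWb (X.basicOpen_le _)]
    exact (RingedSpace.isUnit_res_basicOpen _ _).map _
  rw [show resO X hWU (N.ν U s) = νloc g d W (resO X' (g.preimage_mono hWU) s) from
    (existsUnique_isNorm hG s).choose_spec.1 W hWU hW, isUnit_νloc g d hW hd] at h1
  exact QC.basicOpen_resO_le _ s ((X'.basicOpen_of_isUnit h1).ge hxW)

end Groth.Agent.NormLB
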