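import Mathlib.RingTheory.Localization.Module
import Mathlib.LinearAlgebra.Dimension.Finite
import Mathlib.LinearAlgebra.Dimension.DivisionRing
import Mathlib.LinearAlgebra.Dimension.Free
import Mathlib.RingTheory.Localization.Free
import Mathlib.RingTheory.Localization.FractionRing
import Mathlib.Algebra.Module.LocalizedModule.Basic

/-!
Generic freeness of finite modules over domains.
-/

set_option autoImplicit false

universe u

open Module

namespace Groth.Agent.NormLB

/-- A finite module over a domain is free after inverting a nonzero element. -/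
theorem exists_free_away_of_domain (A M : Type u) [CommRing A] [IsDomain A] [AddCommGroup M] [Module A M]
    [Module.Finite A M] :
    ∃ r : A, r ≠ 0 ∧ Module.Free (Localization (Submonoid.powers r)) (LocalizedModule.Away r M) := by
  classical
  let S := nonZeroDivisors A
  let K := Localization S
  letI : Field K := IsFractionRing.toField A
  let f := LocalizedModule.mkLinearMap S M
  haveI : Module.Finite K (LocalizedModule S M) := Module.Finite.of_isLocalizedModule S (Rₚ := K) f
  let b := Module.finBasis K (LocalizedModule S M)
  choose x hx using fun i => IsLocalizedModule.surj S f (b i)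
  let φ : (Fin (finrank K (LocalizedModule S M)) → A) →ₗ[A] M := Fintype.linearCombination A fun i => (x i).1
  have hfφ : ∀ c, f (φ c) = ∑ i, (algebraMap A K (c i * (x i).2)) • b i := fun c => by
    simp only [φ, Fintype.linearCombination_apply, map_sum, map_smul]
    refine Finset.sum_congr rfl fun i _ => ?_
    rw [← hx i, IsScalarTower.algebraMap_smul, mul_smul]
    rfl
  have hinj : Function.Injective φ := by
    rw [injective_iff_map_eq_zero]
    intro c hc
    funext i
    have h0 : ∑ j, (algebraMap A K (c j * (x j).2)) • b j = 0 := by rw [← hfφ, hc, map_zero]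
    have h1 := Fintype.linearIndependent_iff.mp b.linearIndependent _ h0 i
    rw [← map_zero (algebraMap A K)] at h1
    exact (mul_eq_zero.mp (IsFractionRing.injective A K h1)).resolve_right (nonZeroDivisors.ne_zero (x i).2.2)
  have hcl : ∀ m : M, ∃ σ : A, σ ≠ 0 ∧ σ • m ∈ LinearMap.range φ := fun m => by
    obtain ⟨s, hs⟩ := IsLocalization.exist_integer_multiples S Finset.univ fun i => b.repr (f m) i
    choose c hc using fun i => hs i (Finset.mem_univ i)
    let P : A := ∏ i, ((x i).2 : A)
    have hP : P ≠ 0 := Finset.prod_ne_zero_iff.mpr fun i _ => nonZeroDivisors.ne_zero (x i).2.2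
    choose q hq using fun i => Finset.dvd_prod_of_mem (fun i => ((x i).2 : A)) (Finset.mem_univ i)
    have key : f ((P * s) • m) = f (φ fun i => q i * c i) := by
      rw [hfφ, map_smul]
      conv_lhs => rw [← b.sum_repr (f m), Finset.smul_sum]
      refine Finset.sum_congr rfl fun i _ => ?_
      rw [← IsScalarTower.algebraMap_smul K (P * (s : A)), smul_smul]
      congr 1
      rw [map_mul, mul_assoc, ← Algebra.smul_def (s : A) (b.repr (f m) i), ← hc i, ← map_mul,
        show P = _ from hq i]
      exact congrArg (algebraMap A K) (by ring)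
    obtain ⟨σ, hσ⟩ := (IsLocalizedModule.eq_iff_exists S f).mp key
    refine ⟨(σ : A) * (P * s), mul_ne_zero (nonZeroDivisors.ne_zero σ.2)
      (mul_ne_zero hP (nonZeroDivisors.ne_zero s.2)), ?_⟩
    rw [mul_smul]
    exact ⟨(σ : A) • fun i => q i * c i, (map_smul φ _ _).trans hσ.symm⟩
  obtain ⟨T, hT⟩ := Module.Finite.fg_top (R := A) (M := M)
  choose σ hσ0 hσ using hcl
  let r : A := ∏ m ∈ T, σ m
  have hr : ∀ m : M, r • m ∈ LinearMap.range φ := fun m => by
    have hm : m ∈ Submodule.span A (T : Set M) := hT ▸ Submodule.mem_top
    induction hm using Submodule.span_induction with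
    | mem t ht =>
      obtain ⟨d, hd⟩ := Finset.dvd_prod_of_mem σ (Finset.mem_coe.mp ht)
      rw [show r = σ t * d from hd, mul_comm, mul_smul]
      exact Submodule.smul_mem _ d (hσ t)
    | zero => simp
    | add a b _ _ ha hb => rw [smul_add]; exact add_mem ha hb
    | smul a y _ hy => rw [smul_comm]; exact Submodule.smul_mem _ a hy
  refine ⟨r, Finset.prod_ne_zero_iff.mpr fun m _ => hσ0 m, ?_⟩
  let R' := Localization (Submonoid.powers r)
  let e := IsLocalizedModule.map (Submonoid.powers r)
    (LocalizedModule.mkLinearMap (Submonoid.powers r) (Fin (finrank K (LocalizedModule S M)) → A))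
    (LocalizedModule.mkLinearMap (Submonoid.powers r) M) φ
  have hbij : Function.Bijective e := by
    refine ⟨IsLocalizedModule.map_injective _ _ _ φ hinj, fun y => ?_⟩
    obtain ⟨⟨m, s⟩, hms⟩ := IsLocalizedModule.surj (Submonoid.powers r) (LocalizedModule.mkLinearMap _ M) y
    obtain ⟨c, hc⟩ := hr m
    refine ⟨IsLocalizedModule.mk' (LocalizedModule.mkLinearMap _ _) c (⟨r, 1, pow_one r⟩ * s), ?_⟩
    rw [show e _ = _ from IsLocalizedModule.map_mk' _ _ _ φ c _, hc,
      IsLocalizedModule.mk'_eq_iff, mul_smul, map_smul]
    exact congrArg (r • ·) hms.symm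
  let e' := LinearEquiv.ofBijective (e.extendScalarsOfIsLocalization (Submonoid.powers r) R') hbij
  haveI : Module.Free R' (LocalizedModule.Away r (Fin (finrank K (LocalizedModule S M)) → A)) :=
    Module.Free.of_basis ((Pi.basisFun A _).ofIsLocalizedModule R' (Submonoid.powers r)
      (LocalizedModule.mkLinearMap (Submonoid.powers r) _))
  exact Module.Free.of_equiv e'

end Groth.Agent.NormLB
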