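import Groth.Agent.NormLB.Module
import Groth.Agent.NormAmple.Descend
import Groth.Agent.MeroLib.Special

/-!
The norm of an invertible module, and existence of ample modules downstairs.
-/

set_option autoImplicit false
set_option backward.isDefEq.respectTransparency false
set_option linter.style.haveILetI false

universe u

open CategoryTheory CategoryTheory.Limits AlgebraicGeometry TopologicalSpace Opposite
open Groth.Agent.QC (res resO res_res res_self res_smul resO_resO app_res)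

noncomputable section

namespace Groth.Agent.NormLB

open Groth.Agent

variable {X' X : Scheme.{u}}

/-- A multiplicative natural map on functions detecting non-vanishing on fibres, of no fixed degree. -/
structure PreNorm (g : X' ⟶ X) where
  ν : ∀ V : X.Opens, Γ(X', g ⁻¹ᵁ V) →* Γ(X, V)
  ν_res : ∀ {W V : X.Opens} (h : W ≤ V) (a : Γ(X', g ⁻¹ᵁ V)),
    ν W (resO X' (g.preimage_mono h) a) = resO X h (ν V a)
  mem_basicOpen : ∀ (V : X.Opens) (a : Γ(X', g ⁻¹ᵁ V)) (y : X), y ∈ V →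
    (∀ x', g.base x' = y → x' ∈ X'.basicOpen a) → y ∈ X.basicOpen (ν V a)
  exists_mem : ∀ (V : X.Opens) (a : Γ(X', g ⁻¹ᵁ V)) (y : X), y ∈ V → y ∈ X.basicOpen (ν V a) →
    ∃ x', g.base x' = y ∧ x' ∈ X'.basicOpen a

/-- Forget the degree. -/
def ofNormMap {g : X' ⟶ X} {D : ℕ} (N : NormAmple.NormMap g D) : PreNorm g where
  ν := N.ν
  ν_res := N.ν_res
  mem_basicOpen := N.mem_basicOpen
  exists_mem := N.exists_mem

variable {g : X' ⟶ X}

/-- A norm is only possible for surjective morphisms. -/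
lemma PreNorm.surjective (N : PreNorm g) (y : X) : ∃ x', g.base x' = y := by
  by_contra! h
  obtain ⟨x', hx', -⟩ := N.exists_mem ⊤ 1 y trivial
    (N.mem_basicOpen ⊤ 1 y trivial fun x' hx' => (h x' hx').elim)
  exact h x' hx'

/-- An invertible module upstairs has generators over preimages of small opens. -/
lemma exists_gen_preimage [IsFinite g] {L : X'.Modules} (hL : PicF.IsInvertible L) (y : X) :
    ∃ (W : X.Opens) (e : Γ(L, g ⁻¹ᵁ W)), y ∈ W ∧ TMul.IsGen (X := X') (N := L) (U := g ⁻¹ᵁ W) e := by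
  obtain ⟨O, hO, hyO, -⟩ := exists_isAffineOpen_mem_and_subset (x := y) (U := ⊤) trivial
  obtain ⟨V, e, hZV, he⟩ := MeroLib.exists_gen_near_finite hL (hO.preimage g) (g.base ⁻¹' {y})
    (fun x' hx' => by
      show g.base x' ∈ O
      rw [Set.mem_preimage.mp hx' |> Set.mem_singleton_iff.mp]
      exact hyO)
    (g.finite_preimage_singleton y)
  let W : X.Opens := ⟨(g.base '' (V : Set X')ᶜ)ᶜ, (g.isClosedMap _ V.2.isClosed_compl).isOpen_compl⟩
  have hW : g ⁻¹ᵁ W ≤ V := fun x' hx' => by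
    by_contra hc
    exact hx' ⟨x', hc, rfl⟩
  refine ⟨W, res L hW e, fun ⟨x', hx', e'⟩ => hx' (hZV (by simpa using e')), fun U hU => ?_⟩
  rw [res_res]
  exact he U (hU.trans hW)

/-- The section `s` generates near `x`. -/
def GenAt {N : X.Modules} {U : X.Opens} (s : Γ(N, U)) (x : X) : Prop :=
  ∃ (O : X.Opens) (h : O ≤ U), x ∈ O ∧ TMul.IsGen (res N h s)

lemma genAt_iff {N : X.Modules} {U W : X.Opens} {s : Γ(N, U)} {e : Γ(N, W)} (he : TMul.IsGen e)
    {V : X.Opens} (hU : V ≤ U) (hW : V ≤ W) {c : Γ(X, V)} (hc : res N hU s = c • res N hW e) {x : X}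
    (hx : x ∈ V) : GenAt s x ↔ x ∈ X.basicOpen c := by
  constructor
  · rintro ⟨O, hO, hxO, hg⟩
    obtain ⟨d, hd⟩ := ((hg.res (inf_le_left : O ⊓ V ≤ O)) (O ⊓ V) le_rfl).2
      (res N ((inf_le_right.trans hW) : O ⊓ V ≤ W) e)
    simp only [res_res, res_self] at hd
    have hc' := congrArg (res N (inf_le_right : O ⊓ V ≤ V)) hc
    rw [res_smul, res_res, res_res] at hc'
    rw [hc', ← mul_smul] at hd
    have h1 := (he (O ⊓ V) (inf_le_right.trans hW)).1
      (hd.trans (one_smul Γ(X, O ⊓ V) _).symm)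
    have hu : IsUnit (resO X (inf_le_right : O ⊓ V ≤ V) c) :=
      IsUnit.of_mul_eq_one d ((mul_comm _ _).trans h1)
    exact QC.basicOpen_resO_le _ c ((X.basicOpen_of_isUnit hu).ge ⟨hxO, hx⟩)
  · intro hxc
    refine ⟨X.basicOpen c, (X.basicOpen_le c).trans hU, hxc, ?_⟩
    rw [← res_res N (X.basicOpen_le c) hU, hc, res_smul, res_res]
    exact TMul.isGen_smul (he.res _) (RingedSpace.isUnit_res_basicOpen _ c)

lemma genAt_val_iff {N : X.Modules} (σ : Coh.structureModule X ⟶ N) (x : X) :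
    GenAt (TMul.val σ ⊤) x ↔ x ∈ CohB1.genLocus N σ := by
  rw [TMul.mem_genLocus_iff]
  constructor
  · rintro ⟨O, hO, hx, hg⟩
    exact ⟨O, hx, by rwa [TMul.res_val] at hg⟩
  · rintro ⟨O, hx, hg⟩
    exact ⟨O, le_top, hx, by rwa [TMul.res_val]⟩

set_option maxHeartbeats 1600000 in
/-- The norm of an invertible module, with norms of sections of all powers over all opens. -/
theorem exists_norm [IsFinite g] (N : PreNorm g) {L : X'.Modules} (hL : PicF.IsInvertible L) :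
    ∃ M : X.Modules, PicF.IsInvertible M ∧
      ∀ (n : ℕ) (U : X.Opens) (s : Γ(CohB1.tensorPow L n, g ⁻¹ᵁ U)),
      ∃ t : Γ(CohB1.tensorPow M n, U),
        ∀ y ∈ U, ((∀ x', g.base x' = y → GenAt s x') → GenAt t y) ∧
          (GenAt t y → ∃ x', g.base x' = y ∧ GenAt s x') := by
  classical
  choose W e hyW he using fun y : X => exists_gen_preimage (g := g) hL y
  have hcoef : ∀ z w : X, ∃ a : Γ(X', g ⁻¹ᵁ (W z ⊓ W w)),
      a • res L (g.preimage_mono (inf_le_right : W z ⊓ W w ≤ W w)) (e w) =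
        res L (g.preimage_mono (inf_le_left : W z ⊓ W w ≤ W z)) (e z) :=
    fun z w => (he w (g ⁻¹ᵁ (W z ⊓ W w)) (g.preimage_mono inf_le_right)).2 _
  choose a ha using hcoef
  let c : ∀ z w : X, Γ(X, W z ⊓ W w) := fun z w => N.ν _ (a z w)
  have hres : ∀ (z w : X) (O : X.Opens) (hz : O ≤ W z) (hw : O ≤ W w),
      resO X' (g.preimage_mono (le_inf hz hw)) (a z w) • res L (g.preimage_mono hw) (e w) =
        res L (g.preimage_mono hz) (e z) := fun z w O hz hw => by
    have h1 := congrArg (res L (g.preimage_mono (le_inf hz hw))) (ha z w)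
    rwa [res_smul, res_res, res_res] at h1
  have hc : IsCocycle c := fun z w v O hz hw hv => by
    simp only [c]
    rw [← N.ν_res, ← N.ν_res, ← N.ν_res, ← map_mul]
    refine congrArg _ ((he v _ (g.preimage_mono hv)).1 ?_)
    show (_ * _) • _ = _ • _
    rw [mul_smul, hres w v O hw hv, hres z w O hz hw, hres z v O hz hv]
  have hu : ∀ z w, IsUnit (c z w) := fun z w => by
    obtain ⟨b, hb⟩ := (he z (g ⁻¹ᵁ (W z ⊓ W w)) (g.preimage_mono inf_le_left)).2
      (res L (g.preimage_mono (inf_le_right : W z ⊓ W w ≤ W w)) (e w))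
    refine (IsUnit.of_mul_eq_one b ((he z _ (g.preimage_mono inf_le_left)).1 ?_)).map (N.ν _)
    show (_ * b) • _ = (1 : Γ(X', g ⁻¹ᵁ (W z ⊓ W w))) • _
    rw [mul_smul, show b • res L _ (e z) = _ from hb, ha z w, one_smul]
  refine ⟨line c, isInvertible_line hc hu fun y => ⟨y, hyW y⟩, fun n U s => ?_⟩
  choose α hα using fun z => ((TMul.isGen_pw (he z) n) (g ⁻¹ᵁ (W z ⊓ U)) (g.preimage_mono inf_le_left)).2
    (res _ (g.preimage_mono (inf_le_right : W z ⊓ U ≤ U)) s)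
  simp only at hα
  let t : ∀ z, Γ(CohB1.tensorPow (line c) n, W z ⊓ U) := fun z =>
    N.ν (W z ⊓ U) (α z) • res _ (inf_le_left : W z ⊓ U ≤ W z) (TMul.pw (gen hc z) n)
  have hcomp : ∀ z w, res (CohB1.tensorPow (line c) n) (inf_le_left : (W z ⊓ U) ⊓ (W w ⊓ U) ≤ W z ⊓ U) (t z) =
      res (CohB1.tensorPow (line c) n) (inf_le_right : (W z ⊓ U) ⊓ (W w ⊓ U) ≤ W w ⊓ U) (t w) := by
    intro z w
    set O := (W z ⊓ U) ⊓ (W w ⊓ U)
    have hz : O ≤ W z ⊓ U := inf_le_left
    have hw : O ≤ W w ⊓ U := inf_le_right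
    have hz' : O ≤ W z := hz.trans inf_le_left
    have hw' : O ≤ W w := hw.trans inf_le_left
    have key : resO X' (g.preimage_mono hw) (α w) = resO X' (g.preimage_mono hz) (α z) *
        resO X' (g.preimage_mono (le_inf hz' hw')) (a z w) ^ n := by
      refine ((TMul.isGen_pw (he w) n) _ (g.preimage_mono hw')).1 ?_
      show _ • _ = (_ * _) • _
      have h1 := congrArg (res _ (g.preimage_mono hw)) (hα w)
      have h2 := congrArg (res _ (g.preimage_mono hz)) (hα z)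
      rw [res_smul, res_res, res_res] at h1 h2
      rw [mul_smul, TMul.res_pw, ← TMul.pw_smul, hres z w O hz' hw', ← TMul.res_pw, ← TMul.res_pw]
      exact h1.trans h2.symm
    simp only [t, res_smul, res_res, TMul.res_pw]
    rw [← N.ν_res, ← N.ν_res, key, map_mul, map_pow, res_gen hc z w _ hz' hw', TMul.pw_smul, smul_smul]
    congr 2
    rw [← N.ν_res]
  obtain ⟨T, hT, -⟩ := TopCat.Sheaf.existsUnique_gluing' (QC.abSheaf (CohB1.tensorPow (line c) n))
    (fun z => W z ⊓ U) U (fun z => homOfLE inf_le_right)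
    (fun z hz => Opens.mem_iSup.mpr ⟨z, hyW z, hz⟩) t hcomp
  refine ⟨T, fun y hy => ?_⟩
  have hyV : y ∈ W y ⊓ U := ⟨hyW y, hy⟩
  have hval : res _ (inf_le_right : W y ⊓ U ≤ U) T =
      N.ν (W y ⊓ U) (α y) • res _ (inf_le_left : W y ⊓ U ≤ W y) (TMul.pw (gen hc y) n) := hT y
  have h1 := genAt_iff (TMul.isGen_pw (isGen_gen hc hu y) n) _ _ hval hyV
  refine ⟨fun h => h1.mpr ?_, fun h => ?_⟩
  · refine N.mem_basicOpen _ _ y hyV fun x' hx' => ?_
    have hx'V : x' ∈ g ⁻¹ᵁ (W y ⊓ U) := by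
      show g.base x' ∈ W y ⊓ U
      rw [hx']; exact hyV
    exact (genAt_iff (TMul.isGen_pw (he y) n) _ (g.preimage_mono inf_le_left) (hα y).symm hx'V).mp (h x' hx')
  · obtain ⟨x', hx', hxa⟩ := N.exists_mem _ _ y hyV (h1.mp h)
    exact ⟨x', hx', (genAt_iff (TMul.isGen_pw (he y) n) _ (g.preimage_mono inf_le_left) (hα y).symm
      (X'.basicOpen_le _ hxa)).mpr hxa⟩

/-- With a norm, the target of a finite morphism inherits an ample module. -/
theorem exists_isAmple [IsFinite g] (N : PreNorm g) {L : X'.Modules} (hL : CohB1.IsAmple L) :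
    ∃ M : X.Modules, CohB1.IsAmple M := by
  classical
  haveI := hL.2.1
  haveI : CompactSpace X := ⟨by
    rw [← Set.image_univ_of_surjective (f := g.base) N.surjective]
    exact isCompact_univ.image g.continuous⟩
  obtain ⟨M, hM, hT⟩ := exists_norm N hL.1
  refine ⟨M, hM, inferInstance, fun x => ?_⟩
  obtain ⟨W, hW, hxW, -⟩ := exists_isAffineOpen_mem_and_subset (x := x) (U := ⊤) trivial
  obtain ⟨n, s, hZs, hsW, -⟩ := TMul.exists_finite_le hL (Z := g.base ⁻¹' {x})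
    (g.finite_preimage_singleton x) (U := g ⁻¹ᵁ W) (fun x' hx' => by
      show g.base x' ∈ W
      rw [Set.mem_preimage.mp hx' |> Set.mem_singleton_iff.mp]
      exact hxW)
  obtain ⟨t, ht⟩ := hT (n + 1) ⊤ (TMul.val s (g ⁻¹ᵁ ⊤))
  let T := TMul.homOf t
  have hval : TMul.val T ⊤ = t := (TMul.val_homOf t ⊤).trans (res_self _ _ _)
  have hT' : ∀ y : X, ((∀ x', g.base x' = y → x' ∈ CohB1.genLocus _ s) → y ∈ CohB1.genLocus _ T) ∧
      (y ∈ CohB1.genLocus _ T → ∃ x', g.base x' = y ∧ x' ∈ CohB1.genLocus _ s) := fun y => by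
    simp only [← genAt_val_iff, hval]
    exact ht y trivial
  refine ⟨n, T, (hT' x).1 fun x' hx' => hZs (by simpa using hx'), ?_⟩
  refine TMul.isAffineOpen_genLocus_of_le (TMul.isInvertible_tensorPow hM _) T hW fun y hy => ?_
  obtain ⟨x', hx', hxs⟩ := (hT' y).2 hy
  have := hsW hxs
  rwa [← hx']

lemma genAt_res_iff {N : X.Modules} {U V : X.Opens} (h : V ≤ U) (s : Γ(N, U)) {x : X} (hx : x ∈ V) :
    GenAt (res N h s) x ↔ GenAt s x := by
  constructor
  · rintro ⟨O, hO, hxO, hg⟩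
    exact ⟨O, hO.trans h, hxO, by rwa [res_res] at hg⟩
  · rintro ⟨O, hO, hxO, hg⟩
    refine ⟨O ⊓ V, inf_le_right, ⟨hxO, hx⟩, ?_⟩
    have := hg.res (inf_le_left : O ⊓ V ≤ O)
    rw [res_res] at this
    rwa [res_res]

/-- A global section of a restricted module, as a section over the image. -/
def sec {Z : Scheme.{u}} (j : Z ⟶ X) [IsOpenImmersion j] {P : X.Modules}
    (s : Coh.structureModule Z ⟶ P.restrict j) : Γ(P, j ''ᵁ ⊤) := TMul.val s ⊤

lemma genAt_restrict_iff {Z : Scheme.{u}} (j : Z ⟶ X) [IsOpenImmersion j] {P : X.Modules}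
    (s : Coh.structureModule Z ⟶ P.restrict j) (z : Z) :
    GenAt (sec j s) (j z) ↔ z ∈ CohB1.genLocus _ s := by
  rw [TMul.mem_genLocus_iff]
  unfold sec
  constructor
  · rintro ⟨O, hO, hz, hg⟩
    refine ⟨j ⁻¹ᵁ O, hz, (TMul.isGen_restrict_iff j s _).mpr ?_⟩
    have hle : j ''ᵁ (j ⁻¹ᵁ O) ≤ O := by rintro _ ⟨w, hw, rfl⟩; exact hw
    have := hg.res hle
    rwa [res_res] at this
  · rintro ⟨W, hz, hg⟩
    exact ⟨j ''ᵁ W, j.image_mono le_top, ⟨z, hz, rfl⟩, (TMul.isGen_restrict_iff j s W).mp hg⟩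

set_option maxHeartbeats 800000 in
/-- With a norm, relatively ample modules descend along a finite morphism in existence form. -/
theorem exists_isRelAmple {Y : Scheme.{u}} [IsFinite g] (N : PreNorm g) (f : X ⟶ Y) [QuasiCompact f]
    {L : X'.Modules} (hL : RelAmple.IsRelAmple (g ≫ f) L) :
    ∃ M : X.Modules, PicF.IsInvertible M ∧ RelAmple.IsRelAmple f M := by
  classical
  obtain ⟨M, hM, hT⟩ := exists_norm N (TMul.isInvertible_of_isRelAmple hL)
  refine ⟨M, hM, inferInstance, fun V => ⟨TMul.isInvertible_restrict _ hM,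
    isCompact_iff_compactSpace.mp (f.isCompact_preimage V.2.isCompact), fun x => ?_⟩⟩
  let U : X.Opens := f ⁻¹ᵁ V.1
  let j : (g ⁻¹ᵁ U).toScheme ⟶ X' := (g ⁻¹ᵁ U).ι
  have hA : CohB1.IsAmple (L.restrict j) := hL.2 V
  obtain ⟨W, hW, hxW, hWU⟩ := exists_isAffineOpen_mem_and_subset (x := U.ι x) (U := U) x.2
  obtain ⟨n, s₀, hZs, hsW, -⟩ := TMul.exists_finite_le hA (Z := (j ≫ g).base ⁻¹' {U.ι x})
    ((g.finite_preimage_singleton (U.ι x)).preimage (f := j.base) j.isOpenEmbedding.injective.injOn)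
    (U := j ⁻¹ᵁ (g ⁻¹ᵁ W)) (fun z hz => by
      show g.base (j z) ∈ W
      rw [show g.base (j z) = U.ι x from hz]
      exact hxW)
  obtain ⟨i₁⟩ := TMul.nonempty_restrictPowIso j L (n + 1)
  have e₁ : j ''ᵁ ⊤ = g ⁻¹ᵁ U := by
    rw [Scheme.Hom.image_top_eq_opensRange, Scheme.Opens.opensRange_ι]
  have e₂ : U.ι ''ᵁ ⊤ = U := by rw [Scheme.Hom.image_top_eq_opensRange, Scheme.Opens.opensRange_ι]
  let σ : Γ(CohB1.tensorPow L (n + 1), g ⁻¹ᵁ U) :=
    res _ e₁.ge (sec j (s₀ ≫ i₁.hom))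
  obtain ⟨t, ht⟩ := hT (n + 1) U σ
  let T₀ : Coh.structureModule U.toScheme ⟶ (CohB1.tensorPow M (n + 1)).restrict U.ι :=
    TMul.homOf (L := (CohB1.tensorPow M (n + 1)).restrict U.ι) (res _ e₂.le t)
  obtain ⟨i₂⟩ := TMul.nonempty_restrictPowIso U.ι M (n + 1)
  have hT₀ : ∀ z : U.toScheme, z ∈ CohB1.genLocus _ (T₀ ≫ i₂.inv) ↔ GenAt t (U.ι z) := fun z => by
    rw [TMul.genLocus_comp, ← genAt_restrict_iff U.ι T₀ z]
    rw [show sec U.ι T₀ = res _ e₂.le t from (TMul.val_homOf _ ⊤).trans (res_self _ _ _)]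
    exact genAt_res_iff _ _ ⟨z, trivial, rfl⟩
  have hσ : ∀ z : (g ⁻¹ᵁ U).toScheme, GenAt σ (j z) ↔ z ∈ CohB1.genLocus _ s₀ := fun z => by
    rw [← TMul.genLocus_comp s₀ i₁.hom, ← genAt_restrict_iff j]
    exact genAt_res_iff _ _ z.2
  refine ⟨n, T₀ ≫ i₂.inv, (hT₀ x).mpr ((ht _ x.2).1 fun x' hx' => ?_), ?_⟩
  · have hx'U : x' ∈ g ⁻¹ᵁ U := by
      show g.base x' ∈ U
      rw [hx']; exact x.2
    exact (hσ ⟨x', hx'U⟩).mpr (hZs (show g.base x' = U.ι x from hx'))
  · refine TMul.isAffineOpen_genLocus_of_le (TMul.isInvertible_tensorPow (TMul.isInvertible_restrict _ hM) _)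
      _ (U := U.ι ⁻¹ᵁ W) ((U.ι.isAffineOpen_iff_of_isOpenImmersion).mp (by
        rw [Scheme.Hom.image_preimage_eq_opensRange_inf, Scheme.Opens.opensRange_ι,
          inf_eq_right.mpr (show W ≤ U from hWU)]
        exact hW)) fun z hz => ?_
    obtain ⟨x', hx', hg'⟩ := (ht _ z.2).2 ((hT₀ z).mp hz)
    have hx'U : x' ∈ g ⁻¹ᵁ U := by
      show g.base x' ∈ U
      rw [hx']; exact z.2
    have : g.base x' ∈ W := hsW ((hσ ⟨x', hx'U⟩).mp hg')
    rwa [hx'] at this

end Groth.Agent.NormLB
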