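import Groth.Agent.NormLB.GenFree
import Groth.Agent.NormAmple.NormalNorm

/-!
Norms onto integral normal schemes.
-/

set_option autoImplicit false
set_option backward.isDefEq.respectTransparency false
set_option linter.style.haveILetI false
set_option linter.unusedSectionVars false

universe u

open CategoryTheory CategoryTheory.Limits AlgebraicGeometry TopologicalSpace Opposite Module
open Groth.Agent.QC (res resO res_res res_self res_smul resO_resO resO_self app_res)
open Groth.Agent.NormAmple (Good NormMap IsNorm νloc good_basicOpen eq_of_isNorm exists_local_norm_of_nhd normMapOfUnique)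

noncomputable section

namespace Groth.Agent.NormLB

open Groth.Agent

variable {X' X : Scheme.{u}} {g : X' ⟶ X}

/-- Some nonempty open is good for a positive degree. -/
theorem exists_good_of_isIntegral [IsIntegral X] [IsFinite g] [Surjective g] :
    ∃ (D : ℕ) (W : X.Opens), 0 < D ∧ (W : Set X).Nonempty ∧ Good g D W := by
  classical
  obtain ⟨x₀⟩ : Nonempty X := inferInstance
  obtain ⟨W, hW, hxW, -⟩ := exists_isAffineOpen_mem_and_subset (x := x₀) (U := ⊤) trivial
  haveI : Nonempty W := ⟨⟨x₀, hxW⟩⟩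
  let M := (Coh.push g).obj (Coh.structureModule X')
  have hM : Coh.IsQCoh M := by
    haveI : (Coh.structureModule X').IsQuasicoherent := QC.isQCoh_unit X'
    exact QC.isQCoh_pushforward g
  haveI : Module.Finite Γ(X, W) Γ(M, W) := IsFinite.finite_app g W hW
  obtain ⟨r, hr, hfree⟩ := exists_free_away_of_domain Γ(X, W) Γ(M, W)
  haveI := hfree
  obtain ⟨h1, h2⟩ := LocFree.free_finite_basicOpen hM hW r
  haveI := h1; haveI := h2
  have hne : (X.basicOpen r : Set X).Nonempty := by
    rw [Set.nonempty_iff_ne_empty]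
    exact fun h => hr ((AlgebraicGeometry.basicOpen_eq_bot_iff _).mp (Opens.ext h))
  let A' := Γ(X, X.basicOpen r)
  letI := (g.app (X.basicOpen r)).hom.toAlgebra
  let l : Γ(M, X.basicOpen r) ≃ₗ[A'] Γ(X', g ⁻¹ᵁ X.basicOpen r) :=
    { toFun := fun c => c
      invFun := fun c => c
      map_add' := fun _ _ => rfl
      map_smul' := fun _ _ => rfl
      left_inv := fun _ => rfl
      right_inv := fun _ => rfl }
  let b := ((Module.Free.chooseBasis A' Γ(M, X.basicOpen r)).map l).reindex (Fintype.equivFin _)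
  refine ⟨_, _, Nat.pos_of_ne_zero fun h0 => ?_, hne, hW.basicOpen r, _, Nat.pos_of_ne_zero fun h0 => ?_,
    dvd_refl _, ⟨b⟩⟩ <;>
  · haveI : IsEmpty (Fin (Fintype.card (Module.Free.ChooseBasisIndex A' Γ(M, X.basicOpen r)))) := by
      rw [h0]; infer_instance
    haveI : Subsingleton Γ(X', g ⁻¹ᵁ X.basicOpen r) := b.repr.toEquiv.subsingleton
    obtain ⟨x, hx⟩ := hne
    obtain ⟨x', hx'⟩ := g.surjective x
    have hu := (X'.basicOpen_of_isUnit (isUnit_of_subsingleton (0 : Γ(X', g ⁻¹ᵁ X.basicOpen r)))).ge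
      (show x' ∈ g ⁻¹ᵁ X.basicOpen r from (show g.base x' ∈ X.basicOpen r from hx'.symm ▸ hx))
    rw [X'.basicOpen_zero] at hu
    exact hu

/-- A finite surjective morphism onto an integral normal scheme has a norm. -/
theorem exists_normMap_of_normal [IsIntegral X] [IsFinite g] [Surjective g]
    (hn : ∀ x : X, IsDomain (X.presheaf.stalk x) ∧ IsIntegrallyClosed (X.presheaf.stalk x)) :
    ∃ D, 0 < D ∧ Nonempty (NormMap g D) := by
  classical
  obtain ⟨D, W₀, hD, hne₀, hW₀⟩ := exists_good_of_isIntegral (g := g)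
  have hdense : ∀ O : X.Opens, (O : Set X).Nonempty → ∃ W, W ≤ O ∧ (W : Set X).Nonempty ∧ Good g D W :=
    fun O hO => by
      obtain ⟨z, hz₀, hz⟩ := nonempty_preirreducible_inter W₀.2 O.2 hne₀ hO
      obtain ⟨r, hr, hzr⟩ := hW₀.1.exists_basicOpen_le ⟨z, hz⟩ hz₀
      exact ⟨_, hr, ⟨z, hzr⟩, (good_basicOpen g D hW₀ r).1⟩
  have hloc : ∀ (V : X.Opens) (a : Γ(X', g ⁻¹ᵁ V)) (y : X), y ∈ V →
      ∃ (W : X.Opens) (hWV : W ≤ V) (_ : y ∈ W) (t : Γ(X, W)),
        IsNorm g D (resO X' (g.preimage_mono hWV) a) t ∧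
        (y ∈ X.basicOpen t → ∃ x', g.base x' = y ∧ x' ∈ X'.basicOpen a) := by
    intro V a y hy
    refine exists_local_norm_of_nhd hD hdense a hy (hn y) ?_
    obtain ⟨W, hW, hyW, -⟩ := exists_isAffineOpen_mem_and_subset (x := y) (U := ⊤) trivial
    haveI : Nonempty W := ⟨⟨y, hyW⟩⟩
    exact ⟨W, hW, hyW, inferInstance⟩
  have hE : ∀ (V : X.Opens) (a : Γ(X', g ⁻¹ᵁ V)), ∃! t : Γ(X, V), IsNorm g D a t := by
    intro V a
    choose W hWV hyW t ht _ using fun y : V => hloc V a y.1 y.2
    obtain ⟨T, hT, -⟩ := X.sheaf.existsUnique_gluing' W V (fun y => homOfLE (hWV y))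
      (fun y hy => Opens.mem_iSup.mpr ⟨⟨y, hy⟩, hyW _⟩) t (fun i j => by
        show resO X (inf_le_left : W i ⊓ W j ≤ W i) (t i) = resO X (inf_le_right : W i ⊓ W j ≤ W j) (t j)
        refine eq_of_isNorm hdense (a := resO X' (g.preimage_mono (inf_le_left.trans (hWV i))) a) ?_ ?_
        · have := (ht i).restrict (inf_le_left : W i ⊓ W j ≤ W i)
          rwa [resO_resO] at this
        · have := (ht j).restrict (inf_le_right : W i ⊓ W j ≤ W j)
          rwa [resO_resO] at this)
    have hnorm : IsNorm g D a T := fun W' hW' hG' => by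
      choose r hr hyr using fun z : W' =>
        hG'.1.exists_basicOpen_le (V := W ⟨z.1, hW' z.2⟩) ⟨z.1, hyW _⟩ z.2
      refine X.sheaf.eq_of_locally_eq' (fun z : W' => X.basicOpen (r z)) W'
        (fun z => homOfLE (X.basicOpen_le _)) (fun z hz => Opens.mem_iSup.mpr ⟨⟨z, hz⟩, hyr _⟩) _ _ fun z => ?_
      show resO X (X.basicOpen_le (r z)) (resO X hW' T) = resO X (X.basicOpen_le (r z)) (νloc g D W' _)
      obtain ⟨hG, hν⟩ := good_basicOpen g D hG' (r z)
      rw [← hν, resO_resO, ← resO_resO (hr z) (hWV _), show resO X (hWV _) T = t _ from hT _,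
        ht _ _ (hr z) hG, resO_resO, resO_resO]
    exact ⟨T, hnorm, fun T' hT' => eq_of_isNorm hdense hT' hnorm⟩
  refine ⟨D, hD, ⟨normMapOfUnique hE fun V a y hy hyb => ?_⟩⟩
  obtain ⟨W, hWV, hyW, t, ht, hex⟩ := hloc V a y hy
  refine hex ?_
  rw [eq_of_isNorm hdense ht ((hE V a).choose_spec.1.restrict hWV)]
  exact (X.basicOpen_res _ _).ge ⟨hyW, hyb⟩

end Groth.Agent.NormLB
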